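import Cfsg.Agent.H90.SiftRu.Data

/-! Check (generated, owner: helper90). -/

set_option autoImplicit false
set_option maxRecDepth 1000000

namespace Cfsg.Agent.H90.SiftRu

open Cfsg.Agent.CosetEnum Cfsg.Agent.H90.Sift

theorem a3_0 : lvS P [54, 636, 48] 1491 mA3 207 0x7fffffffffffffffffffffffffffffffffffffffffffffffffff 4060 13 0x2138d52130cc5b6d939a6cb5968698726aa864393554000001c99b212dbca9b22c6989298e26a531a4d8b274d331cdaa000000000000000000000000000000717a1b09c736aa4f2762a800000000000000035968698726aa8643935533953154d4caaa900006ce54c553532aaa4d9ca98aa6a65554d62ec35e592aa9b12002cb26aaa4e271a9324e271ab1b216ce26a4d64ab4a96de54d324c4d362cb26aaab139934c272554924c4d362cb1b24c71869a4000000038b58d52290ca94531a4d514cac349c71acc38b58d52000003192aad65a1a5e4aaac9c9555925aca96f2c6c9126f286a0000000000000000000000000000000000000000000000000000005963648b133134c27255489bca9caa552509caa552c71869a400096b2a5bcb1b2449bca1ab192aad65a1a5a64e69b32454d890000000019c61a9b4ce30d4d64e9a6290ca9492455a693672a93 0 = true := by decide +kernel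

theorem a4_0 : lvS P [1491, 54, 636, 48] 2987 mA4 225 0x1ffffffffffffffffffffffffffffffffffffffffffffffffffffffff 4060 4 0x16b1761af2c9554d892cb1b319552d438d4a933138c399349c5b561b00c9e359662c9d34cc736a938e3598716b1ab2d1664d2de5534de50d4f278c8aa592953552ad2c4e55331639aaf2a6925e58e269b327a2a62 0 = true := by decide +kernel

end Cfsg.Agent.H90.SiftRu
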