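import Cfsg.Agent.H90.SiftRu.Data

/-! Check (generated, owner: helper90). -/

set_option autoImplicit false
set_option maxRecDepth 1000000

namespace Cfsg.Agent.H90.SiftRu

open Cfsg.Agent.CosetEnum Cfsg.Agent.H90.Sift

theorem b3_0 : lvS P [1862, 1984, 1304] 2013 mB3 231 0x7fffffffffffffffffffffffffffffffffffffffffffffffffffffffff 4060 52 0x4d658d30e595259a599948696db6954da52654d589ada4b28ab4d43532000037962da4f4559af1d16512555994c6a512cb166966278c353aac5000000000000f1c4d50e4c990d4da89e30d2596ea78e39534d90e35551000000000025939566bc71259a5d56659634d4d654d3092d625e8953120000000000026962613312ea5952d99164d9ad36f2a6b392aa978c559a00000000000024cb1ad9321c4c92459366a78c353aac4f2c5b49d8ab340000000000059c72a9bcb2c6aaac3a4512c9ab0b321a9b4a1a99c95560000000000000000000126271c692d64a998d55b4a1c99c9554bc62acd000000000000121792a6a594393a69392a64594c9b6d925ac4bd12a624000b24b2d09a4e38e39364e26990d4da89e30d25e5316ac58d26a86a64000079486aab2a9649d34934e4ce4a9aa1ca1c9d34c3496b12f44a98900000000000000000026962613312ea5952d96a1c998662cd24c992a5b00000000000000001491550c98e55b4ce2db271c5d35a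c9556259455a600000000000000000122c4d6d259455a6a1a998a458d2744ab49a5498400000000064ce4a9add594c9b6ce596364866521a5b794c5d84c8a9b200000000000000000000000000000000000000000000000000000000000000000000000006f2c5b49e562c693543533326d589493138d34d3a4400000032c59a5989e30d4eab1425ac4bd12a62521792a6a499cb13543400000248b26cd69b79534d522aa1931aab699c5b39658d9219948696d800000000000292486b34b699a62ad36f2a6b3326d5896349ace2d9a99000000000000321cb254b7964aa55b332d15521cb2aa4ca4352a4b34b20000050e596364866521a5b79658d35359534c32459366b4dbca9a6a6400000000000000008662cd25e349a665a2aaa5245543263556d338b6c800000000000000000000004e595526521a95259a59cb2c69a9aca9a6100000000000012459366b4dbca9a6a924359a7499626a931761322a6c8000000000000a1ca4554c9654978c86b532c6c90e25e8a19165326db6400000de58b693d1566a8b28962726cd6ce34d4b267254d50939626c4d800004b272acd78e24b34baac59259684d271a71c9b271354353392aac00005ba964a4a4d2f2c92a626f2c5b49d8ab364589ada4b28ab4d435320078e26a87267255590cc59a4bc6934ccb455539655499486a54966964000078e26a87267255290d555552c93a6926978e8b2892aacca635289000000000003298b562c71354cb1b24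33290d2da916349d12ad26952610000000000000037962da4f455b392a64594c9b6ce596364866521a5b60000287291553259525e321ad439330cc59a4993254b64b5897a254c4800000000000000002dd4f1c72a69b21c6aaa278e8b2892aacca63528900000000000028b28962726cd6ce34d4d9c5d35a931389a6c8b134d4da000000000000194c5e84c8a9b0bc74393561ca434b6db4aa6d2932a6b60000000025ac4bb12a626b1269b164b364d27499626a86bc6967254c880000ca62d58b1c4d50d4f24b2d09a4e34e39364e26990d4da89e30d2580000242f254d49339626a86939655499486a54966967298bb099153640000000016d626a8b2b3267254d6ea592cd934bcb24a985ac4bd12a624000044b26ac2cc8726d64aa521aaaaaa59274d24d8726725552f18ab340000000000000000000ca62d58b1c4d50d4c9931cab589a62595552ad80000de58b693d15669cb135435e34b392a644f290d555552c93a692690000000248b26cd69b795364554c9554978c86b52490d669d26589aa1a0000009acb1a61cb2a6b392a6a849cb13626d4cb1b22ca9aa92de54d640014393392ca978c559b12c9ab0b321a9b592a9486aaaaa9649d349348000000000000000000000003c7134c86a6d44f18692f298bb099153640000164965a1349c71c726cd85b589aa2aacc99c95356531761322a6c8000012d625d89531291626b692ca2ad350d4ccc9b56258d26b38b66a64000000000000000025939566bc71259a5d561671caa6f2ca9aaab0e910000000193392a6b7565326db6664dab12c69359c5bcb1b2433290d2db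 0 = true := by decide +kernel

end Cfsg.Agent.H90.SiftRu
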