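import Cfsg.Agent.H90.SiftMain
import Cfsg.Agent.H90.SiftRu.Small
import Cfsg.Agent.H90.SiftRu.N0
import Cfsg.Agent.H90.SiftRu.N1
import Cfsg.Agent.H90.SiftRu.A0
import Cfsg.Agent.H90.SiftRu.A1
import Cfsg.Agent.H90.SiftRu.A2
import Cfsg.Agent.H90.SiftRu.A3
import Cfsg.Agent.H90.SiftRu.B0
import Cfsg.Agent.H90.SiftRu.B1
import Cfsg.Agent.H90.SiftRu.B2
import Cfsg.Agent.H90.SiftRu.B3
import Cfsg.Agent.H90.SiftRu.SA0
import Cfsg.Agent.H90.SiftRu.SB0

/-! Assembly (generated, owner: helper90). -/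

set_option autoImplicit false
set_option maxRecDepth 1000000

namespace Cfsg.Agent.H90.SiftRu

open Cfsg.Agent.CosetEnum Cfsg.Agent.H90.Sift

open Subgroup

theorem ncov : Cov (newB P Cfsg.Agent.CosetEnum.RuT.P ws) 0 P.m :=
  ((Cov.of n0 rfl).trans (Cov.of n1 rfl))

section

variable {G : Type*} [Group G] [MulAction G (Fin P.m)] {g : ℕ → G} (h : LettersOK P g)

include h

theorem levA0 : LevC P (closure ({g 1, g 3, g 5} : Set G)) [] 48 mA0 4060 0 4060 :=
    (show LevC P (closure ({g 1, g 3, g 5} : Set G)) [] 48 mA0 _ _ _ from (lvS_sound h.ra h.mem (b := 48) (show 48 < 4060 by norm_num) a0_0))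

theorem levA1 : LevC P (closure ({g 1, g 3, g 5} : Set G)) [48] 636 mA1 2304 0 4060 :=
    ((show LevC P (closure ({g 1, g 3, g 5} : Set G)) [48] 636 mA1 _ _ _ from (lvS_sound h.ra h.mem (b := 636) (show 636 < 4060 by norm_num) a1_0)).append
      (lvS_sound h.ra h.mem (b := 636) (show 636 < 4060 by norm_num) a1_1))

theorem levA2 : LevC P (closure ({g 1, g 3, g 5} : Set G)) [636, 48] 54 mA2 300 0 4060 :=
    (show LevC P (closure ({g 1, g 3, g 5} : Set G)) [636, 48] 54 mA2 _ _ _ from (lvS_sound h.ra h.mem (b := 54) (show 54 < 4060 by norm_num) a2_0))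

theorem levA3 : LevC P (closure ({g 1, g 3, g 5} : Set G)) [54, 636, 48] 1491 mA3 13 0 4060 :=
    (show LevC P (closure ({g 1, g 3, g 5} : Set G)) [54, 636, 48] 1491 mA3 _ _ _ from (lvS_sound h.ra h.mem (b := 1491) (show 1491 < 4060 by norm_num) a3_0))

theorem levA4 : LevC P (closure ({g 1, g 3, g 5} : Set G)) [1491, 54, 636, 48] 2987 mA4 4 0 4060 :=
    (show LevC P (closure ({g 1, g 3, g 5} : Set G)) [1491, 54, 636, 48] 2987 mA4 _ _ _ from (lvS_sound h.ra h.mem (b := 2987) (show 2987 < 4060 by norm_num) a4_0))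

theorem chainA : ChP P (closure ({g 1, g 3, g 5} : Set G)) lA [] :=
  ⟨(show 48 < 4060 by norm_num), (levA0 h).1, ⟨(show 636 < 4060 by norm_num), (levA1 h).1, ⟨(show 54 < 4060 by norm_num), (levA2 h).1, ⟨(show 1491 < 4060 by norm_num), (levA3 h).1, ⟨(show 2987 < 4060 by norm_num), (levA4 h).1, trivial⟩⟩⟩⟩⟩

theorem levB0 : LevC P (closure ({g 1, g 3, g 5} : Set G)) [] 1304 mB0 4060 0 4060 :=
    (show LevC P (closure ({g 1, g 3, g 5} : Set G)) [] 1304 mB0 _ _ _ from (lvS_sound h.ra h.mem (b := 1304) (show 1304 < 4060 by norm_num) b0_0))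

theorem levB1 : LevC P (closure ({g 1, g 3, g 5} : Set G)) [1304] 1984 mB1 2304 0 4060 :=
    ((show LevC P (closure ({g 1, g 3, g 5} : Set G)) [1304] 1984 mB1 _ _ _ from (lvS_sound h.ra h.mem (b := 1984) (show 1984 < 4060 by norm_num) b1_0)).append
      (lvS_sound h.ra h.mem (b := 1984) (show 1984 < 4060 by norm_num) b1_1))

theorem levB2 : LevC P (closure ({g 1, g 3, g 5} : Set G)) [1984, 1304] 1862 mB2 300 0 4060 :=
    (show LevC P (closure ({g 1, g 3, g 5} : Set G)) [1984, 1304] 1862 mB2 _ _ _ from (lvS_sound h.ra h.mem (b := 1862) (show 1862 < 4060 by norm_num) b2_0))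

theorem levB3 : LevC P (closure ({g 1, g 3, g 5} : Set G)) [1862, 1984, 1304] 2013 mB3 52 0 4060 :=
    (show LevC P (closure ({g 1, g 3, g 5} : Set G)) [1862, 1984, 1304] 2013 mB3 _ _ _ from (lvS_sound h.ra h.mem (b := 2013) (show 2013 < 4060 by norm_num) b3_0))

theorem chainB : ChP P (closure ({g 1, g 3, g 5} : Set G)) lB [] :=
  ⟨(show 1304 < 4060 by norm_num), (levB0 h).1, ⟨(show 1984 < 4060 by norm_num), (levB1 h).1, ⟨(show 1862 < 4060 by norm_num), (levB2 h).1, ⟨(show 2013 < 4060 by norm_num), (levB3 h).1, trivial⟩⟩⟩⟩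

end

theorem basedA : Based P 1 lA := ⟨Nat.eq_of_beq_eq_true (by decide +kernel : Nat.beq (run P 1 48) 636 = true), ⟨Nat.eq_of_beq_eq_true (by decide +kernel : Nat.beq (run P 1 636) 54 = true), ⟨Nat.eq_of_beq_eq_true (by decide +kernel : Nat.beq (run P 1 54) 1491 = true), ⟨Nat.eq_of_beq_eq_true (by decide +kernel : Nat.beq (run P 1 1491) 2987 = true), trivial⟩⟩⟩⟩

theorem ltA : ∀ t ∈ lA, t.1 < P.m := by decide +kernel

theorem basedB : Based P 3 lB := ⟨Nat.eq_of_beq_eq_true (by decide +kernel : Nat.beq (run P 3 1304) 1984 = true), ⟨Nat.eq_of_beq_eq_true (by decide +kernel : Nat.beq (run P 3 1984) 1862 = true), ⟨Nat.eq_of_beq_eq_true (by decide +kernel : Nat.beq (run P 3 1862) 2013 = true), trivial⟩⟩⟩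

theorem ltB : ∀ t ∈ lB, t.1 < P.m := by decide +kernel

section

variable {G : Type*} [Group G] [MulAction G (Fin P.m)] {g : ℕ → G} (h : RA P g)

include h

theorem covA (hx : ExP G P lA []) : CovP P (elt g 1) (elt g 0x1) {z | ∃ w ∈ [0], z = elt g w} 48 0 P.m :=
  (CovP.of h hx ltA basedA (show pts P 0x1 _ _ [0] (lms lA) _ _ _ = true from sA0) rfl (by decide +kernel))

theorem covB (hx : ExP G P lB []) : CovP P (elt g 3) (elt g 0x36db6db6db) {z | ∃ w ∈ (gs.map fun t => t.1), z = elt g w} 1304 0 P.m :=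
  (CovP.of h hx ltB basedB (show pts P 0x36db6db6db _ _ (gs.map fun t => t.1) (lms lB) _ _ _ = true from sB0) rfl (by decide +kernel))

end


theorem hks : ∀ m < 29, m ≠ 0 → ∃ a : ℕ, (22 ^ a * m) % 29 = 1 ∨ (22 ^ a * m) % 29 = 2 := by
  have h : ∀ m < 29, m ≠ 0 → ∃ a < 29, (22 ^ a * m) % 29 = 1 ∨ (22 ^ a * m) % 29 = 2 := by decide +kernel
  intro m h1 h2
  obtain ⟨a, _, h3⟩ := h m h1 h2
  exact ⟨a, h3⟩

theorem concl {G : Type} [Group G] [Finite G] {f : ℕ → G} (hN : Nat.card G = 145926144000) [MulAction G (Fin P.m)] (h : LettersOK P (newL f ws)) :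
    Concl G (newL f ws 1) (newL f ws 3) (newL f ws 5) ((newL f ws 1) ^ 2) (elt (newL f ws) e2) (false = true) ∧
      closure ({newL f ws 1, newL f ws 3, newL f ws 5} : Set G) = ⊤ ∧ ExP G P lA [] ∧ ExP G P lB [] := by
  have cA := chainA h
  have cB := chainB h
  have hcA : Nat.card G ≤ (lA.map fun t => t.2.2).prod := by rw [hN]; decide +kernel
  have hcB : Nat.card G ≤ (lB.map fun t => t.2.2).prod := by rw [hN]; decide +kernel
  have xA := cA.exact' hcA
  have xB := cB.exact' hcB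
  have : Fact (Nat.Prime 29) := ⟨by norm_num⟩
  refine ⟨?_, cA.top hcA, xA, xB⟩
  exact sift_main h (p := 29) (by rw [hN]; decide +kernel) (hB := xB) (bA := 48) (bB := 1304) (by decide +kernel) (by decide +kernel)
    (fun i hi => covA h.ra xA i (Nat.zero_le _) hi) (fun i hi => covB h.ra xB i (Nat.zero_le _) hi)
    ⟨4, 10, by decide +kernel, by decide +kernel⟩ hks small (by norm_num) c1 c2

end Cfsg.Agent.H90.SiftRu
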