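import Cfsg.Agent.CosetEnum.Ru.Main
import Cfsg.Agent.H90.SiftRu.Chain

/-! The outer automorphism group (owner: helper90). -/

set_option autoImplicit false
set_option maxRecDepth 1000000

namespace Cfsg.Agent.H90.SiftRu

open Cfsg.Agent.CosetEnum Cfsg.Agent.CosetEnum.Ru Cfsg.Agent.H90.Sift

theorem out_GR : Nat.card (Cfsg.Out GR) = 1 := by
  have hcard : Nat.card GR = _ := card_GR
  have hfin : Finite GR := Nat.finite_of_card_ne_zero (by rw [hcard]; norm_num)
  obtain ⟨A, letsk, cw, h1, h2, hA, h3k, h4, h5, h6, h7⟩ := (L9).ex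
  obtain ⟨A', hRA⟩ := new_action (P := P) (Q := Cfsg.Agent.CosetEnum.RuT.P) rfl A hA (ws := ws) (by decide +kernel) (by decide +kernel)
    (by decide +kernel) ncov
  have h : LettersOK P (newL gR ws) := letters_ok hRA
  obtain ⟨hC, hS, xA, xB⟩ := concl hcard h
  exact hC.one (by decide) hS

end Cfsg.Agent.H90.SiftRu
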